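import Groth.Agent.Lib.KFlat.HomAdj
import Groth.Agent.Lib.DMod.Homology
import Groth.Agent.Lib.DBaseChange.TensorValue
import Groth.Prelude.Def_HTor
import Mathlib.Algebra.Homology.HomologicalComplexAbelian
import Mathlib.Data.Int.Interval
import Mathlib.LinearAlgebra.TensorProduct.RightExactness
import Mathlib.RingTheory.Flat.Basic

/-!
# The Künneth map of two complexes of modules
-/

set_option autoImplicit false
set_option linter.style.haveILetI false
set_option backward.isDefEq.respectTransparency false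

universe u

open CategoryTheory CategoryTheory.Limits MonoidalCategory TensorProduct

noncomputable section

namespace Groth.Agent.Kunneth27

open Groth.Agent.KFlat.HomAdj

variable {A : Type u} [CommRing A]

/-- The projection to the `(p, q)` summand of a tensor product of complexes. -/
def pr (K L : DRing.Cx A) (p q n : ℤ) (h : p + q = n) : (K ⊗ L).X n ⟶ K.X p ⊗ L.X q :=
  HomologicalComplex.mapBifunctorDesc fun i j (h' : i + j = n) =>
    if e : i = p then eqToHom (show K.X i ⊗ L.X j = K.X p ⊗ L.X q by subst e; rw [show j = q by omega]) else 0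

theorem pr_tn_self (K L : DRing.Cx A) (p q n : ℤ) (h : p + q = n) (x : K.X p) (y : L.X q) :
    pr K L p q n h (tn p q n h x y) = x ⊗ₜ[A] y := by
  refine (desc_tn _ p q h x y).trans ?_
  rw [dif_pos rfl]
  rfl

theorem pr_tn_ne (K L : DRing.Cx A) (p q p' q' n : ℤ) (h : p + q = n) (h' : p' + q' = n) (hne : p' ≠ p)
    (x : K.X p') (y : L.X q') : pr K L p q n h (tn p' q' n h' x y) = 0 := by
  refine (desc_tn _ p' q' h' x y).trans ?_
  rw [dif_neg hne]
  rfl

/-- The inclusion of the `(p, q)` summand. -/
def inj (K L : DRing.Cx A) (p q n : ℤ) (h : p + q = n) : (K.X p : Type u) ⊗[A] (L.X q) →ₗ[A] (K ⊗ L).X n :=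
  (HomologicalComplex.ιTensorObj K L p q n h).hom

theorem inj_tmul (K L : DRing.Cx A) (p q n : ℤ) (h : p + q = n) (x : K.X p) (y : L.X q) :
    inj K L p q n h (x ⊗ₜ[A] y) = tn p q n h x y := rfl

/-- The projection as a linear map. -/
def prL (K L : DRing.Cx A) (p q n : ℤ) (h : p + q = n) : (K ⊗ L).X n →ₗ[A] (K.X p : Type u) ⊗[A] (L.X q) :=
  (pr K L p q n h).hom

theorem prL_inj_self (K L : DRing.Cx A) (p q n : ℤ) (h : p + q = n) (t : (K.X p : Type u) ⊗[A] (L.X q)) :
    prL K L p q n h (inj K L p q n h t) = t := by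
  induction t using TensorProduct.induction_on with
  | zero => rw [map_zero, map_zero]
  | tmul x y => exact pr_tn_self K L p q n h x y
  | add a b ha hb => rw [map_add, map_add, ha, hb]

theorem prL_inj_ne (K L : DRing.Cx A) (p q p' q' n : ℤ) (h : p + q = n) (h' : p' + q' = n) (hne : p' ≠ p)
    (t : (K.X p' : Type u) ⊗[A] (L.X q')) : prL K L p q n h (inj K L p' q' n h' t) = 0 := by
  induction t using TensorProduct.induction_on with
  | zero => rw [map_zero, map_zero]
  | tmul x y => exact pr_tn_ne K L p q p' q' n h h' hne x y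
  | add a b ha hb => rw [map_add, map_add, ha, hb, add_zero]

theorem eq_sum_pr {K L : DRing.Cx A} {b c : ℤ} (hK : DRing.VanishesAbove K b) (hL : DRing.VanishesAbove L c)
    (n : ℤ) (x : (K ⊗ L).X n) :
    x = ∑ p ∈ Finset.Icc (n - c) b, inj K L p (n - p) n (by omega) (prL K L p (n - p) n (by omega) x) := by
  let r : (K ⊗ L).X n →ₗ[A] (K ⊗ L).X n :=
    ∑ p ∈ Finset.Icc (n - c) b, inj K L p (n - p) n (by omega) ∘ₗ prL K L p (n - p) n (by omega)
  have hr : ∀ z, r z = ∑ p ∈ Finset.Icc (n - c) b, inj K L p (n - p) n (by omega) (prL K L p (n - p) n (by omega) z) :=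
    fun z => by simp [r]
  suffices h : ModuleCat.ofHom r = 𝟙 _ by
    exact ((hr x).symm.trans (LinearMap.congr_fun (congrArg ModuleCat.Hom.hom h) x)).symm
  refine tn_ext fun i j hij a a' => ?_
  obtain rfl : j = n - i := by omega
  show r (tn i (n - i) n hij a a') = tn i (n - i) n hij a a'
  by_cases hi : i ∈ Finset.Icc (n - c) b
  · rw [hr, Finset.sum_eq_single_of_mem i hi fun p _ hp => ?_]
    · rw [← inj_tmul, prL_inj_self]
    · rw [← inj_tmul, prL_inj_ne K L p (n - p) i (n - i) n (by omega) (by omega) (fun e => hp e.symm), map_zero]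
  · have hz : (a : K.X i) ⊗ₜ[A] a' = 0 := by
      rw [Finset.mem_Icc, not_and_or, not_le, not_le] at hi
      rcases hi with h | h
      · have := ModuleCat.subsingleton_of_isZero (hL (n - i) (by omega))
        rw [Subsingleton.elim a' 0, TensorProduct.tmul_zero]
      · have := ModuleCat.subsingleton_of_isZero (hK i h)
        rw [Subsingleton.elim a 0, TensorProduct.zero_tmul]
    rw [← inj_tmul, hz, map_zero, map_zero]

theorem ext_pr {K L : DRing.Cx A} {b c : ℤ} (hK : DRing.VanishesAbove K b) (hL : DRing.VanishesAbove L c)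
    {n : ℤ} {x y : (K ⊗ L).X n} (h : ∀ p q (hpq : p + q = n), prL K L p q n hpq x = prL K L p q n hpq y) : x = y := by
  rw [eq_sum_pr hK hL n x, eq_sum_pr hK hL n y]
  exact Finset.sum_congr rfl fun p _ => by rw [h]

theorem prL_whiskerLeft (L : DRing.Cx A) {M M' : DRing.Cx A} (g : M ⟶ M') (p q n : ℤ) (h : p + q = n)
    (x : (L ⊗ M).X n) :
    prL L M' p q n h ((L ◁ g).f n x) = (g.f q).hom.lTensor (L.X p) (prL L M p q n h x) := by
  have e : (L ◁ g).f n ≫ pr L M' p q n h = pr L M p q n h ≫ ModuleCat.ofHom ((g.f q).hom.lTensor (L.X p)) := by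
    refine tn_ext fun i j hij a a' => ?_
    show prL L M' p q n h ((L ◁ g).f n (tn i j n hij a a')) =
      (g.f q).hom.lTensor (L.X p) (prL L M p q n h (tn i j n hij a a'))
    rw [tn_whiskerLeft, ← inj_tmul, ← inj_tmul]
    by_cases he : i = p
    · subst he
      obtain rfl : j = q := by omega
      rw [prL_inj_self, prL_inj_self]
      rfl
    · rw [prL_inj_ne _ _ p q i j n h hij he, prL_inj_ne _ _ p q i j n h hij he, map_zero]
  exact LinearMap.congr_fun (congrArg ModuleCat.Hom.hom e) x

/-- Tensoring a short exact sequence with a flat complex. -/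
theorem shortExact_whiskerLeft {L : DRing.Cx A} {b c : ℤ} (hL : DRing.VanishesAbove L b) (hF : DRing.TermwiseFlat L)
    {M₁ M₂ M₃ : DRing.Cx A} (f : M₁ ⟶ M₂) (g : M₂ ⟶ M₃) (h₁ : DRing.VanishesAbove M₁ c)
    (h₂ : DRing.VanishesAbove M₂ c) (h₃ : DRing.VanishesAbove M₃ c)
    (hf : ∀ i, Function.Injective (f.f i)) (hfg : ∀ i, Function.Exact (f.f i).hom (g.f i).hom)
    (hg : ∀ i, Function.Surjective (g.f i)) (w : L ◁ f ≫ L ◁ g = 0) :
    (ShortComplex.mk (L ◁ f) (L ◁ g) w).ShortExact :=
  HomologicalComplex.shortExact_of_degreewise_shortExact _ fun n =>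
    { exact := (ShortComplex.ShortExact.moduleCat_exact_iff_function_exact _).2 fun y => by
        refine ⟨fun hy => ?_, ?_⟩
        · have hy' : (L ◁ g).f n y = 0 := hy
          have key : ∀ p, ∃ t : (L.X p : Type u) ⊗[A] (M₁.X (n - p)),
              (f.f (n - p)).hom.lTensor (L.X p) t = prL L M₂ p (n - p) n (by omega) y := fun p => by
            refine ((lTensor_exact (L.X p) (hfg (n - p)) (hg (n - p))) _).1 ?_
            rw [← prL_whiskerLeft, hy', map_zero]
          choose t ht using key
          refine ⟨∑ p ∈ Finset.Icc (n - c) b, inj L M₁ p (n - p) n (by omega) (t p), ?_⟩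
          show (L ◁ f).f n _ = y
          refine Eq.trans ?_ (eq_sum_pr hL h₂ n y).symm
          rw [map_sum]
          refine Finset.sum_congr rfl fun p _ => ?_
          rw [← ht]
          generalize t p = s
          induction s using TensorProduct.induction_on with
          | zero => rw [map_zero, map_zero, map_zero, map_zero]
          | tmul a a' => exact tn_whiskerLeft L f p (n - p) n (by omega) a a'
          | add a a' ha ha' => rw [map_add, map_add, map_add, map_add, ha, ha']
        · rintro ⟨x, rfl⟩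
          exact LinearMap.congr_fun (congrArg (fun t => (t.f n).hom) w) x
      mono_f := (ModuleCat.mono_iff_injective _).2 fun x y hxy => ext_pr hL h₁ fun p q hpq => by
        haveI := hF p
        refine Module.Flat.lTensor_preserves_injective_linearMap (M := L.X p) (f.f q).hom (hf q) ?_
        rw [← prL_whiskerLeft, ← prL_whiskerLeft]
        exact congrArg _ hxy
      epi_g := (ModuleCat.epi_iff_surjective _).2 fun z => by
        choose t ht using fun p => LinearMap.lTensor_surjective (L.X p) (hg (n - p)) (prL L M₃ p (n - p) n (by omega) z)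
        refine ⟨∑ p ∈ Finset.Icc (n - c) b, inj L M₂ p (n - p) n (by omega) (t p), ?_⟩
        show (L ◁ g).f n _ = z
        refine Eq.trans ?_ (eq_sum_pr hL h₃ n z).symm
        rw [map_sum]
        refine Finset.sum_congr rfl fun p _ => ?_
        rw [← ht]
        generalize t p = s
        induction s using TensorProduct.induction_on with
        | zero => rw [map_zero, map_zero, map_zero, map_zero]
        | tmul a a' => exact tn_whiskerLeft L g p (n - p) n (by omega) a a'
        | add a a' ha ha' => rw [map_add, map_add, map_add, map_add, ha, ha'] }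

/-! ### The Künneth map -/

variable (L M : DRing.Cx A)

theorem inj_d (p p' q q' n n' : ℤ) (h : p + q = n) (hp : p + 1 = p') (hq : q + 1 = q') (hn : n + 1 = n')
    (t : (L.X p : Type u) ⊗[A] (M.X q)) :
    (L ⊗ M).d n n' (inj L M p q n h t) = inj L M p' q n' (by omega) ((L.d p p').hom.rTensor (M.X q) t) +
      p.negOnePow • inj L M p q' n' (by omega) ((M.d q q').hom.lTensor (L.X p) t) := by
  induction t using TensorProduct.induction_on with
  | zero => simp
  | tmul x y => exact tn_d p p' q q' n n' h hp hq hn x y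
  | add a b ha hb =>
    simp only [map_add, ha, hb, smul_add]
    abel

/-- The product of two cycles. -/
def cycMul (i j n : ℤ) (h : i + j = n) : (L.cycles i : Type u) ⊗[A] (M.cycles j) →ₗ[A] (L ⊗ M).cycles n :=
  ((L ⊗ M).liftCycles
    (ModuleCat.ofHom (inj L M i j n h ∘ₗ TensorProduct.map (L.iCycles i).hom (M.iCycles j).hom)) (n + 1)
    (CochainComplex.next ℤ n) (ModuleCat.hom_ext (TensorProduct.ext' fun z z' => by
      show (L ⊗ M).d n (n + 1) (tn i j n h (L.iCycles i z) (M.iCycles j z')) = 0
      rw [tn_d i (i + 1) j (j + 1) n (n + 1) h rfl rfl rfl, DMod.d_iCycles, DMod.d_iCycles, tn_zero_left]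
      rw [← inj_tmul, TensorProduct.tmul_zero, map_zero, smul_zero, add_zero]))).hom

theorem iCycles_cycMul (i j n : ℤ) (h : i + j = n) (t : (L.cycles i : Type u) ⊗[A] (M.cycles j)) :
    (L ⊗ M).iCycles n (cycMul L M i j n h t) =
      inj L M i j n h (TensorProduct.map (L.iCycles i).hom (M.iCycles j).hom t) := by
  unfold cycMul
  rw [← ModuleCat.comp_apply, HomologicalComplex.liftCycles_i]
  rfl

attribute [irreducible] cycMul

theorem ker_map_π (i j : ℤ) :
    LinearMap.ker (TensorProduct.map (L.homologyπ i).hom (M.homologyπ j).hom) ≤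
      LinearMap.range ((M.toCycles (j - 1) j).hom.lTensor (L.cycles i)) ⊔
        LinearMap.range ((L.toCycles (i - 1) i).hom.rTensor (M.cycles j)) := by
  have hex : ∀ (N : DRing.Cx A) (k : ℤ), Function.Exact (N.toCycles (k - 1) k).hom (N.homologyπ k).hom := fun N k =>
    (ShortComplex.ShortExact.moduleCat_exact_iff_function_exact _).1
      (ShortComplex.exact_of_g_is_cokernel (ShortComplex.mk _ _ (N.toCycles_comp_homologyπ (k - 1) k))
        (N.homologyIsCokernel (k - 1) k (by simp)))
  rw [TensorProduct.map_ker (hex L i) (DMod.homologyπ_surjective L i) (hex M j) (DMod.homologyπ_surjective M j)]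

theorem ker_map_π_le (i j n : ℤ) (h : i + j = n) :
    LinearMap.ker (TensorProduct.map (L.homologyπ i).hom (M.homologyπ j).hom) ≤
      LinearMap.ker (((L ⊗ M).homologyπ n).hom ∘ₗ cycMul L M i j n h) := by
  refine (ker_map_π L M i j).trans (sup_le ?_ ?_)
  · rintro _ ⟨t, rfl⟩
    show (L ⊗ M).homologyπ n (cycMul L M i j n h _) = 0
    rw [DMod.homologyπ_eq_zero_iff (CochainComplex.prev ℤ n)]
    refine ⟨i.negOnePow • inj L M i (j - 1) (n - 1) (by omega) ((L.iCycles i).hom.rTensor (M.X (j - 1)) t), ?_⟩
    rw [iCycles_cycMul]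
    induction t using TensorProduct.induction_on with
    | zero => simp
    | tmul z y =>
      show (L ⊗ M).d (n - 1) n (i.negOnePow • tn i (j - 1) (n - 1) (by omega) (L.iCycles i z) y) = _
      rw [Units.smul_def, map_zsmul, tn_d i (i + 1) (j - 1) j (n - 1) n (by omega) rfl (by omega) (by omega),
        DMod.d_iCycles, tn_zero_left, zero_add, ← Units.smul_def, smul_smul, Int.units_mul_self, one_smul]
      show tn i j n h _ _ = tn i j n h (L.iCycles i z) (M.iCycles j (M.toCycles (j - 1) j y))
      rw [← ModuleCat.comp_apply (M.toCycles _ _), HomologicalComplex.toCycles_i]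
    | add a a' ha ha' => simp only [map_add, smul_add, ha, ha']
  · rintro _ ⟨t, rfl⟩
    show (L ⊗ M).homologyπ n (cycMul L M i j n h _) = 0
    rw [DMod.homologyπ_eq_zero_iff (CochainComplex.prev ℤ n)]
    refine ⟨inj L M (i - 1) j (n - 1) (by omega) ((M.iCycles j).hom.lTensor (L.X (i - 1)) t), ?_⟩
    rw [iCycles_cycMul]
    induction t using TensorProduct.induction_on with
    | zero => simp
    | tmul x z =>
      show (L ⊗ M).d (n - 1) n (tn (i - 1) j (n - 1) (by omega) x (M.iCycles j z)) = _
      rw [tn_d (i - 1) i j (j + 1) (n - 1) n (by omega) (by omega) rfl (by omega), DMod.d_iCycles,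
        ← inj_tmul L M (i - 1), TensorProduct.tmul_zero, map_zero, smul_zero, add_zero]
      show tn i j n h _ _ = tn i j n h (L.iCycles i (L.toCycles (i - 1) i x)) (M.iCycles j z)
      rw [← ModuleCat.comp_apply (L.toCycles _ _), HomologicalComplex.toCycles_i]
    | add a a' ha ha' => simp only [map_add, ha, ha']

/-- The Künneth map on one summand. -/
def phi1 (i j n : ℤ) (h : i + j = n) : (L.homology i : Type u) ⊗[A] (M.homology j) →ₗ[A] (L ⊗ M).homology n :=
  (LinearMap.ker (TensorProduct.map (L.homologyπ i).hom (M.homologyπ j).hom)).liftQ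
      (((L ⊗ M).homologyπ n).hom ∘ₗ cycMul L M i j n h) (ker_map_π_le L M i j n h) ∘ₗ
    (LinearMap.quotKerEquivOfSurjective _
      (TensorProduct.map_surjective (DMod.homologyπ_surjective L i) (DMod.homologyπ_surjective M j))).symm.toLinearMap

theorem phi1_π (i j n : ℤ) (h : i + j = n) (t : (L.cycles i : Type u) ⊗[A] (M.cycles j)) :
    phi1 L M i j n h (TensorProduct.map (L.homologyπ i).hom (M.homologyπ j).hom t) =
      (L ⊗ M).homologyπ n (cycMul L M i j n h t) := by
  have hq := LinearMap.quotKerEquivOfSurjective_symm_apply (TensorProduct.map (L.homologyπ i).hom (M.homologyπ j).hom)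
    (TensorProduct.map_surjective (DMod.homologyπ_surjective L i) (DMod.homologyπ_surjective M j)) t
  simp only [phi1, LinearMap.comp_apply, LinearEquiv.coe_toLinearMap, hq, Submodule.liftQ_apply]

attribute [irreducible] phi1

/-- The Künneth map. -/
def phi (n : ℤ) : HTor.KunnethSum L M n →ₗ[A] (L ⊗ M).homology n :=
  DirectSum.toModule A _ _ fun ij : HTor.Antidiag n => phi1 L M ij.1.1 ij.1.2 n ij.2

theorem phi_lof (n : ℤ) (ij : HTor.Antidiag n) (s : (L.homology ij.1.1 : Type u) ⊗[A] (M.homology ij.1.2)) :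
    phi L M n (DirectSum.lof A (HTor.Antidiag n) _ ij s) = phi1 L M ij.1.1 ij.1.2 n ij.2 s :=
  DirectSum.toModule_lof A (φ := fun ij : HTor.Antidiag n => phi1 L M ij.1.1 ij.1.2 n ij.2) ij s

theorem isKunnethMap_phi (n : ℤ) : HTor.IsKunnethMap L M n (phi L M n) := by
  intro ij z z' w hw
  refine (phi_lof L M n ij _).trans ((phi1_π L M ij.1.1 ij.1.2 n ij.2 (z ⊗ₜ[A] z')).trans ?_)
  refine congrArg ((L ⊗ M).homologyπ n) (DMod.iCycles_injective (L ⊗ M) n ?_)
  rw [iCycles_cycMul]
  exact hw.symm

/-- All products of cycles. -/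
def tot (n : ℤ) : (DirectSum (HTor.Antidiag n) fun ij => (L.cycles ij.1.1 : Type u) ⊗[A] (M.cycles ij.1.2)) →ₗ[A]
    (L ⊗ M).cycles n :=
  DirectSum.toModule A _ _ fun ij : HTor.Antidiag n => cycMul L M ij.1.1 ij.1.2 n ij.2

theorem tot_lof (n : ℤ) (ij : HTor.Antidiag n) (s : (L.cycles ij.1.1 : Type u) ⊗[A] (M.cycles ij.1.2)) :
    tot L M n (DirectSum.lof A (HTor.Antidiag n) _ ij s) = cycMul L M ij.1.1 ij.1.2 n ij.2 s :=
  DirectSum.toModule_lof A (φ := fun ij : HTor.Antidiag n => cycMul L M ij.1.1 ij.1.2 n ij.2) ij s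

theorem phi_lmap (n : ℤ) (t : DirectSum (HTor.Antidiag n) fun ij => (L.cycles ij.1.1 : Type u) ⊗[A] (M.cycles ij.1.2)) :
    phi L M n (DirectSum.lmap (fun ij : HTor.Antidiag n =>
      TensorProduct.map (L.homologyπ ij.1.1).hom (M.homologyπ ij.1.2).hom) t) = (L ⊗ M).homologyπ n (tot L M n t) := by
  suffices h : phi L M n ∘ₗ DirectSum.lmap (fun ij : HTor.Antidiag n =>
      TensorProduct.map (L.homologyπ ij.1.1).hom (M.homologyπ ij.1.2).hom) = ((L ⊗ M).homologyπ n).hom ∘ₗ tot L M n from
    LinearMap.congr_fun h t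
  refine DirectSum.linearMap_ext A fun ij => LinearMap.ext fun s => ?_
  simp only [LinearMap.comp_apply, DirectSum.lmap_lof, phi_lof, phi1_π, tot_lof]

/-- Functoriality of the index sum in the second complex. -/
def sumMap {M' : DRing.Cx A} (g : M ⟶ M') (n : ℤ) : HTor.KunnethSum L M n →ₗ[A] HTor.KunnethSum L M' n :=
  DirectSum.lmap fun ij : HTor.Antidiag n =>
    (HomologicalComplex.homologyMap g ij.1.2).hom.lTensor (L.homology ij.1.1)

theorem phi_natural {M' : DRing.Cx A} (g : M ⟶ M') (n : ℤ) (x : HTor.KunnethSum L M n) :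
    HomologicalComplex.homologyMap (L ◁ g) n (phi L M n x) = phi L M' n (sumMap L M g n x) := by
  suffices h : (HomologicalComplex.homologyMap (L ◁ g) n).hom ∘ₗ phi L M n = phi L M' n ∘ₗ sumMap L M g n from
    LinearMap.congr_fun h x
  refine DirectSum.linearMap_ext A fun ij => LinearMap.ext fun s => ?_
  simp only [LinearMap.comp_apply, sumMap, DirectSum.lmap_lof, phi_lof]
  obtain ⟨t, rfl⟩ := TensorProduct.map_surjective (DMod.homologyπ_surjective L ij.1.1)
    (DMod.homologyπ_surjective M ij.1.2) s
  have e : (HomologicalComplex.homologyMap g ij.1.2).hom.lTensor (L.homology ij.1.1)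
      (TensorProduct.map (L.homologyπ ij.1.1).hom (M.homologyπ ij.1.2).hom t) =
      TensorProduct.map (L.homologyπ ij.1.1).hom (M'.homologyπ ij.1.2).hom
        ((HomologicalComplex.cyclesMap g ij.1.2).hom.lTensor (L.cycles ij.1.1) t) := by
    induction t using TensorProduct.induction_on with
    | zero => simp
    | tmul z z' =>
      show _ ⊗ₜ[A] HomologicalComplex.homologyMap g ij.1.2 (M.homologyπ ij.1.2 z') = _
      rw [DMod.homologyMap_π]
      rfl
    | add a a' ha ha' => simp only [map_add, ha, ha']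
  rw [e, phi1_π, phi1_π]
  show HomologicalComplex.homologyMap (L ◁ g) n ((L ⊗ M).homologyπ n _) = _
  rw [DMod.homologyMap_π]
  refine congrArg ((L ⊗ M').homologyπ n) (DMod.iCycles_injective (L ⊗ M') n ?_)
  rw [DMod.iCycles_cyclesMap, iCycles_cycMul, iCycles_cycMul]
  clear e
  induction t using TensorProduct.induction_on with
  | zero => simp
  | tmul z z' =>
    show (L ◁ g).f n (tn _ _ n ij.2 (L.iCycles _ z) (M.iCycles _ z')) =
      tn _ _ n ij.2 (L.iCycles _ z) (M'.iCycles _ (HomologicalComplex.cyclesMap g _ z'))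
    rw [tn_whiskerLeft, DMod.iCycles_cyclesMap]
  | add a a' ha ha' => simp only [map_add, ha, ha']

/-! ### A flat complex with zero differential -/

variable {L M}

theorem prL_d (hd : ∀ i j, M.d i j = 0) (p p' q n n' : ℤ) (h : p + q = n) (hp : p + 1 = p') (hn : n + 1 = n')
    (x : (L ⊗ M).X n) :
    prL L M p' q n' (by omega) ((L ⊗ M).d n n' x) = (L.d p p').hom.rTensor (M.X q) (prL L M p q n h x) := by
  have e : (L ⊗ M).d n n' ≫ pr L M p' q n' (by omega) =
      pr L M p q n h ≫ ModuleCat.ofHom ((L.d p p').hom.rTensor (M.X q)) := by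
    refine tn_ext fun i j hij a a' => ?_
    show prL L M p' q n' (by omega) ((L ⊗ M).d n n' (inj L M i j n hij (a ⊗ₜ[A] a'))) =
      (L.d p p').hom.rTensor (M.X q) (prL L M p q n h (inj L M i j n hij (a ⊗ₜ[A] a')))
    rw [inj_d L M i (i + 1) j (j + 1) n n' hij rfl rfl hn]
    have hz : (M.d j (j + 1)).hom.lTensor (L.X i) (a ⊗ₜ[A] a') = 0 := by
      rw [LinearMap.lTensor_tmul, hd]
      exact TensorProduct.tmul_zero _ _
    rw [hz, map_zero, smul_zero, add_zero]
    by_cases he : i = p
    · subst he
      obtain rfl : j = q := by omega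
      subst hp
      rw [prL_inj_self, prL_inj_self]
    · rw [prL_inj_ne L M p q i j n h hij he, map_zero, prL_inj_ne L M p' q (i + 1) j n' (by omega) (by omega) (by omega)]
  exact LinearMap.congr_fun (congrArg ModuleCat.Hom.hom e) x

theorem bijective_iCycles_of_zero (hd : ∀ i j, M.d i j = 0) (j : ℤ) : Function.Bijective (M.iCycles j).hom := by
  refine ⟨DMod.iCycles_injective M j, fun y => ?_⟩
  exact DMod.exists_cycle (CochainComplex.next ℤ j) y (by rw [hd]; rfl)

theorem bijective_homologyπ_of_zero (hd : ∀ i j, M.d i j = 0) (j : ℤ) : Function.Bijective (M.homologyπ j).hom := by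
  refine ⟨(injective_iff_map_eq_zero _).2 fun z hz => ?_, DMod.homologyπ_surjective M j⟩
  obtain ⟨y, hy⟩ := (DMod.homologyπ_eq_zero_iff (CochainComplex.prev ℤ j) z).1 hz
  rw [hd] at hy
  exact DMod.iCycles_injective M j (hy.symm.trans (map_zero (M.iCycles j).hom).symm)

theorem phi_bijective_of_zero {b c : ℤ} (hL : DRing.VanishesAbove L b) (hM : DRing.VanishesAbove M c)
    (hd : ∀ i j, M.d i j = 0) (hF : DRing.TermwiseFlat M) (n : ℤ) : Function.Bijective (phi L M n) := by
  classical
  have hexact : ∀ p q : ℤ, Function.Exact ((L.iCycles p).hom.rTensor (M.X q)) ((L.d p (p + 1)).hom.rTensor (M.X q)) := by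
    intro p q
    haveI := hF q
    refine Module.Flat.rTensor_exact (M.X q) fun y => ⟨fun hy => ?_, ?_⟩
    · exact DMod.exists_cycle (CochainComplex.next ℤ p) y hy
    · rintro ⟨z, rfl⟩; exact DMod.d_iCycles p (p + 1) z
  constructor
  · rw [injective_iff_map_eq_zero]
    intro x hx
    -- lift to products of cycles
    have hsurj : Function.Surjective (DirectSum.lmap fun ij : HTor.Antidiag n =>
        TensorProduct.map (L.homologyπ ij.1.1).hom (M.homologyπ ij.1.2).hom) :=
      (DirectSum.lmap_surjective _).2 fun ij =>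
        TensorProduct.map_surjective (DMod.homologyπ_surjective L _) (DMod.homologyπ_surjective M _)
    obtain ⟨t, rfl⟩ := hsurj x
    rw [phi_lmap] at hx
    obtain ⟨v, hv⟩ := (DMod.homologyπ_eq_zero_iff (CochainComplex.prev ℤ n) _).1 hx
    refine DirectSum.ext_component A fun ij => ?_
    obtain ⟨⟨p, q⟩, hpq⟩ := ij
    simp only [map_zero]
    show TensorProduct.map (L.homologyπ p).hom (M.homologyπ q).hom
      (DirectSum.component A _ _ (⟨(p, q), hpq⟩ : HTor.Antidiag n) t) = 0
    set s := DirectSum.component A _ _ (⟨(p, q), hpq⟩ : HTor.Antidiag n) t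
    have hs : prL L M p q n hpq ((L ⊗ M).iCycles n (tot L M n t)) =
        TensorProduct.map (L.iCycles p).hom (M.iCycles q).hom s := by
      simp only [s]
      clear hv hx s
      induction t using DirectSum.induction_on with
      | zero => simp
      | of ij r =>
        show prL L M p q n hpq ((L ⊗ M).iCycles n (tot L M n (DirectSum.lof A _ _ ij r))) =
          TensorProduct.map (L.iCycles p).hom (M.iCycles q).hom
            (DirectSum.component A (HTor.Antidiag n) (fun ij : HTor.Antidiag n => (L.cycles ij.1.1 : Type u) ⊗[A] (M.cycles ij.1.2)) (⟨(p, q), hpq⟩ : HTor.Antidiag n) (DirectSum.lof A _ _ ij r))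
        rw [tot_lof, iCycles_cycMul]
        obtain ⟨⟨p', q'⟩, hpq'⟩ := ij
        by_cases he : p' = p
        · subst he
          obtain rfl : q' = q := by simp only at hpq'; omega
          rw [prL_inj_self, DirectSum.component.lof_self]
        · rw [prL_inj_ne L M p q p' q' n hpq hpq' he, DirectSum.component.of, dif_neg, map_zero]
          intro e
          exact he (congrArg (fun k : HTor.Antidiag n => k.1.1) e)
      | add a a' ha ha' => simp only [map_add, ha, ha']
    rw [← hv, prL_d hd (p - 1) p q (n - 1) n (by omega) (by omega) (by omega)] at hs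
    generalize prL L M (p - 1) q (n - 1) (by omega) v = u at hs
    haveI := hF q
    have h1 : (M.iCycles q).hom.lTensor (L.cycles p) s = (L.toCycles (p - 1) p).hom.rTensor (M.X q) u := by
      refine Module.Flat.rTensor_preserves_injective_linearMap (M := M.X q) (L.iCycles p).hom
        (DMod.iCycles_injective L p) ?_
      rw [← LinearMap.comp_apply ((L.iCycles p).hom.rTensor (M.X q)), LinearMap.rTensor_comp_lTensor,
        ← LinearMap.comp_apply ((L.iCycles p).hom.rTensor (M.X q)) ((L.toCycles (p - 1) p).hom.rTensor (M.X q)),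
        ← LinearMap.rTensor_comp, ← ModuleCat.hom_comp, HomologicalComplex.toCycles_i]
      exact hs.symm
    have h2 : (M.iCycles q).hom.lTensor (L.homology p) ((L.homologyπ p).hom.rTensor (M.cycles q) s) = 0 := by
      rw [← LinearMap.comp_apply, LinearMap.lTensor_comp_rTensor, ← LinearMap.rTensor_comp_lTensor,
        LinearMap.comp_apply, h1, ← LinearMap.comp_apply, ← LinearMap.rTensor_comp, ← ModuleCat.hom_comp,
        HomologicalComplex.toCycles_comp_homologyπ]
      simp
    have h3 := (LinearEquiv.lTensor (L.homology p) (LinearEquiv.ofBijective _ (bijective_iCycles_of_zero hd q))).injective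
      (h2.trans (map_zero _).symm)
    rw [← LinearMap.lTensor_comp_rTensor, LinearMap.comp_apply, h3, map_zero]
  · intro η
    obtain ⟨w, rfl⟩ := DMod.homologyπ_surjective (L ⊗ M) n η
    have key : ∀ p, ∃ t : (L.cycles p : Type u) ⊗[A] (M.cycles (n - p)),
        TensorProduct.map (L.iCycles p).hom (M.iCycles (n - p)).hom t =
          prL L M p (n - p) n (by omega) ((L ⊗ M).iCycles n w) := fun p => by
      have h0 : (L.d p (p + 1)).hom.rTensor (M.X (n - p)) (prL L M p (n - p) n (by omega) ((L ⊗ M).iCycles n w)) = 0 := by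
        rw [← prL_d hd p (p + 1) (n - p) n (n + 1) (by omega) rfl rfl, DMod.d_iCycles, map_zero]
      obtain ⟨t₁, ht₁⟩ := (hexact p (n - p) _).1 h0
      obtain ⟨t, rfl⟩ := LinearMap.lTensor_surjective (L.cycles p) (bijective_iCycles_of_zero hd (n - p)).2 t₁
      refine ⟨t, ?_⟩
      rw [← ht₁, ← LinearMap.rTensor_comp_lTensor, LinearMap.comp_apply]
    choose t ht using key
    refine ⟨∑ p ∈ Finset.Icc (n - c) b, DirectSum.lof A (HTor.Antidiag n) _ ⟨(p, n - p), by omega⟩
      (TensorProduct.map (L.homologyπ p).hom (M.homologyπ (n - p)).hom (t p)), ?_⟩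
    rw [map_sum]
    refine (Finset.sum_congr rfl fun p _ => (phi_lof L M n ⟨(p, n - p), by omega⟩ _).trans (phi1_π L M p (n - p) n (by omega) (t p))).trans ?_
    rw [← map_sum]
    refine congrArg ((L ⊗ M).homologyπ n) (DMod.iCycles_injective (L ⊗ M) n ?_)
    rw [map_sum]
    refine Eq.trans ?_ (eq_sum_pr hL hM n ((L ⊗ M).iCycles n w)).symm
    exact Finset.sum_congr rfl fun p _ => by rw [iCycles_cycMul, ht]

end Groth.Agent.Kunneth27
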