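import Groth.Agent.Lib.Kunneth27.Step
import Groth.Agent.Lib.TorBal27.Balance
import Groth.Agent.Lib.DBaseChange.TensorValue
import Groth.Agent.Lib.TorBal.Dim

/-!
# The Künneth filtration
-/

set_option autoImplicit false
set_option linter.style.haveILetI false
set_option backward.isDefEq.respectTransparency false

universe u

open CategoryTheory CategoryTheory.Limits MonoidalCategory TensorProduct

noncomputable section

namespace Groth.Agent.Kunneth27

variable {A : Type u} [CommRing A]

/-! ### Subquotients -/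

theorem isSubquotient_of_surjective {N T : Type u} [AddCommGroup N] [Module A N] [AddCommGroup T] [Module A T]
    (S' : Submodule A T) (f : S' →ₗ[A] N) (hf : Function.Surjective f) : HTor.IsSubquotient A N T := by
  refine ⟨(LinearMap.ker f).map S'.subtype, S', Submodule.map_subtype_le _ _, ⟨?_⟩⟩
  refine (f.quotKerEquivOfSurjective hf).symm ≪≫ₗ Submodule.quotEquivOfEq _ _ ?_
  exact (Submodule.comap_map_eq_of_injective S'.injective_subtype _).symm

theorem exists_surjective_of_isSubquotient {N T : Type u} [AddCommGroup N] [Module A N] [AddCommGroup T] [Module A T]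
    (h : HTor.IsSubquotient A N T) : ∃ (S' : Submodule A T) (f : S' →ₗ[A] N), Function.Surjective f := by
  obtain ⟨S, S', -, ⟨e⟩⟩ := h
  exact ⟨S', e.symm.toLinearMap ∘ₗ Submodule.mkQ _, e.symm.surjective.comp (Submodule.mkQ_surjective _)⟩

theorem isSubquotient_map {N N' T T' : Type u} [AddCommGroup N] [Module A N] [AddCommGroup N'] [Module A N']
    [AddCommGroup T] [Module A T] [AddCommGroup T'] [Module A T'] (h : HTor.IsSubquotient A N' T)
    (g : N →ₗ[A] N') (hg : Function.Injective g) (k : T →ₗ[A] T') (hk : Function.Injective k) :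
    HTor.IsSubquotient A N T' := by
  obtain ⟨S', f, hf⟩ := exists_surjective_of_isSubquotient h
  let S'' : Submodule A S' := Submodule.comap f (LinearMap.range g)
  let f'' : S'' →ₗ[A] N := (LinearEquiv.ofInjective g hg).symm.toLinearMap ∘ₗ f.restrict fun x hx => hx
  let e : S'' ≃ₗ[A] ((S''.map S'.subtype).map k) :=
    (Submodule.equivMapOfInjective _ S'.injective_subtype S'').trans (Submodule.equivMapOfInjective k hk _)
  refine isSubquotient_of_surjective _ (f'' ∘ₗ e.symm.toLinearMap) fun m => ?_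
  obtain ⟨x, hx⟩ := hf (g m)
  have hx' : x ∈ S'' := ⟨m, hx.symm⟩
  refine ⟨e ⟨x, hx'⟩, ?_⟩
  show f'' (e.symm (e ⟨x, hx'⟩)) = m
  rw [LinearEquiv.symm_apply_apply]
  show (LinearEquiv.ofInjective g hg).symm _ = m
  rw [LinearEquiv.symm_apply_eq]
  exact Subtype.ext hx

/-! ### The exact sequence of a step -/

variable {L M : DRing.Cx A} {b c : ℤ} (hL : DRing.VanishesAbove L b) (hF : DRing.TermwiseFlat L)
  (hM : DRing.VanishesAbove M c)

theorem whisker_incC_psi : L ◁ incC M c ≫ L ◁ psi M c = 0 := by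
  rw [← MonoidalCategory.whiskerLeft_comp, incC_psi]
  refine HomologicalComplex.hom_ext _ _ fun n => KFlat.HomAdj.tn_ext fun p q h x y => ?_
  rw [KFlat.HomAdj.tn_whiskerLeft]
  show KFlat.HomAdj.tn p q _ h x 0 = 0
  rw [← inj_tmul, TensorProduct.tmul_zero, map_zero]

include hL hF hM in
theorem shortExact_tensor_step :
    (ShortComplex.mk (L ◁ incC M c) (L ◁ psi M c) whisker_incC_psi).ShortExact :=
  shortExact_whiskerLeft hL hF (incC M c) (psi M c) (vanishesAbove_C hM) (vanishesAbove_Q hM) hM incC_injective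
    exact_incC_psi (psi_surjective hM) _

include hL hF hM in
theorem phi_Q_bijective (n : ℤ) : Function.Bijective (phi L (Qc M c) n) := by
  haveI : CochainComplex.IsStrictlyLE L b := ((CochainComplex.isStrictlyLE_iff L b).2 hL)
  haveI := quasiIso_incP (M := M) (c := c)
  haveI : QuasiIso (L ◁ incP M c) := KFlat.DT.quasiIso_whiskerLeft _ (DBaseChange.isKFlat_of_boundedAbove L b hF)
  have h1 : Function.Bijective (sumMap L (Pc M c) (incP M c) n) := by
    refine ⟨(DirectSum.lmap_injective _).2 fun ij => ?_, (DirectSum.lmap_surjective _).2 fun ij => ?_⟩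
    · exact (LinearEquiv.lTensor (L.homology ij.1.1) (asIso (HomologicalComplex.homologyMap (incP M c) ij.1.2)).toLinearEquiv).injective
    · exact (LinearEquiv.lTensor (L.homology ij.1.1) (asIso (HomologicalComplex.homologyMap (incP M c) ij.1.2)).toLinearEquiv).surjective
  have h2 : Function.Bijective (fun x => HomologicalComplex.homologyMap (L ◁ incP M c) n (phi L (Pc M c) n x)) :=
    (ConcreteCategory.bijective_of_isIso (HomologicalComplex.homologyMap (L ◁ incP M c) n)).comp
      (phi_bijective_of_zero hL vanishesAbove_P (Pc_d M c) flat_P n)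
  have e : (fun x => HomologicalComplex.homologyMap (L ◁ incP M c) n (phi L (Pc M c) n x)) =
      (phi L (Qc M c) n) ∘ (sumMap L (Pc M c) (incP M c) n) := funext fun x => phi_natural L (Pc M c) (incP M c) n x
  rw [e] at h2
  exact (Function.Bijective.of_comp_iff _ h1).1 h2

/-- The connecting map of a step. -/
def delta (n : ℤ) : (L ⊗ M).homology n →ₗ[A] (L ⊗ Cc M c).homology (n + 1) :=
  ((shortExact_tensor_step hL hF hM).δ n (n + 1) rfl).hom

theorem range_phi_eq_ker_delta (n : ℤ) : LinearMap.range (phi L M n) = LinearMap.ker (delta hL hF hM n) := by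
  have hex := (ShortComplex.ShortExact.moduleCat_exact_iff_function_exact _).1
    ((shortExact_tensor_step hL hF hM).homology_exact₃ n (n + 1) rfl)
  ext x
  refine ⟨?_, fun hx => ?_⟩
  · rintro ⟨y, rfl⟩
    have hs : Function.Surjective (sumMap L (Qc M c) (psi M c) n) := (DirectSum.lmap_surjective _).2 fun ij =>
      LinearMap.lTensor_surjective _ (homologyMap_psi_surjective hM ij.1.2)
    obtain ⟨z, rfl⟩ := hs y
    rw [← phi_natural]
    exact (hex _).2 ⟨_, rfl⟩
  · obtain ⟨z, hz⟩ := (hex x).1 hx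
    obtain ⟨y, rfl⟩ := (phi_Q_bijective hL hF hM n).2 z
    exact ⟨sumMap L (Qc M c) (psi M c) n y, (phi_natural L (Qc M c) (psi M c) n y).symm.trans hz⟩

theorem range_delta_inf (n : ℤ) :
    LinearMap.range (delta hL hF hM n) ⊓ LinearMap.range (phi L (Cc M c) (n + 1)) =
      (LinearMap.ker (sumMap L (Cc M c) (incC M c) (n + 1))).map (phi L (Cc M c) (n + 1)) := by
  have hex := (ShortComplex.ShortExact.moduleCat_exact_iff_function_exact _).1
    ((shortExact_tensor_step hL hF hM).homology_exact₁ n (n + 1) rfl)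
  ext x
  refine ⟨?_, ?_⟩
  · rintro ⟨h1, y, rfl⟩
    refine ⟨y, (phi_Q_bijective hL hF hM (n + 1)).1 ?_, rfl⟩
    rw [map_zero, ← phi_natural]
    exact (hex _).2 h1
  · rintro ⟨y, hy, rfl⟩
    refine ⟨(hex _).1 ?_, y, rfl⟩
    show HomologicalComplex.homologyMap (L ◁ incC M c) (n + 1) _ = 0
    rw [phi_natural, hy, map_zero]

/-! ### Comparison with `Tor` -/

theorem Kp_obj_K (N : ModuleCat.{u} A) : ∀ p : ℕ,
    (TorBal27.Kp A p).obj ((TorBal27.K A).obj N) = (TorBal27.Kp A (p + 1)).obj N
  | 0 => rfl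
  | p + 1 => congrArg (TorBal27.K A).obj (Kp_obj_K N p)

/-- `Tor` of a syzygy. -/
def torSyzygy (X N : ModuleCat.{u} A) (p : ℕ) :
    ((Tor (ModuleCat.{u} A) (p + 1)).obj X).obj ((TorBal27.K A).obj N) ≅ ((Tor (ModuleCat.{u} A) (p + 2)).obj X).obj N :=
  (TorBal27.torSuccIso A p).app (X, (TorBal27.K A).obj N) ≪≫
    (TorBal27.T1R A).mapIso (eqToIso (congrArg (Prod.mk X) (Kp_obj_K N p))) ≪≫
    ((TorBal27.torSuccIso A (p + 1)).app (X, N)).symm

variable (L)

/-- The image of `Tor_1` in one summand. -/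
theorem exists_tor_one (hM : DRing.VanishesAbove M c) (i j : ℤ) :
    ∃ f : DRing.Tor A 1 (L.homology i) (M.homology j) →ₗ[A] (L.homology i : Type u) ⊗[A] ((Cc M c).homology j),
      LinearMap.range f =
        LinearMap.ker ((HomologicalComplex.homologyMap (incC M c) j).hom.lTensor (L.homology i)) := by
  rcases exists_homC hM j with h | ⟨e, e', he⟩
  · haveI := h
    refine ⟨0, ?_⟩
    ext x
    haveI : Subsingleton ((L.homology i : Type u) ⊗[A] ((Cc M c).homology j)) := inferInstance
    rw [Subsingleton.elim x 0]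
    simp
  · let τ : DRing.Tor A 1 (L.homology i) (M.homology j) ≃ₗ[A]
        LinearMap.ker ((TorBal27.inc (M.homology j)).lTensor (L.homology i)) :=
      ((TorBal27.torSuccIso A 0).app (L.homology i, M.homology j)).toLinearEquiv
    let g : (L.homology i : Type u) ⊗[A] ((TorBal27.K A).obj (M.homology j)) ≃ₗ[A]
        (L.homology i : Type u) ⊗[A] ((Cc M c).homology j) := LinearEquiv.lTensor _ e.symm
    refine ⟨g.toLinearMap ∘ₗ (LinearMap.ker ((TorBal27.inc (M.homology j)).lTensor (L.homology i))).subtype ∘ₗ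
      τ.toLinearMap, ?_⟩
    rw [LinearMap.range_comp, LinearMap.range_comp, LinearEquiv.range, Submodule.map_top, Submodule.range_subtype]
    have hsq : (LinearEquiv.lTensor (L.homology i : Type u) e').toLinearMap ∘ₗ
        (HomologicalComplex.homologyMap (incC M c) j).hom.lTensor (L.homology i) ∘ₗ g.toLinearMap =
        (TorBal27.inc (M.homology j)).lTensor (L.homology i) :=
      TensorProduct.ext' fun x y => by
        show x ⊗ₜ[A] e' (HomologicalComplex.homologyMap (incC M c) j (e.symm y)) = x ⊗ₜ[A] TorBal27.inc _ y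
        rw [← he, LinearEquiv.apply_symm_apply]
    rw [← hsq]
    ext z
    obtain ⟨w, rfl⟩ := g.surjective z
    simp only [Submodule.mem_map, LinearMap.mem_ker, LinearMap.comp_apply, LinearEquiv.coe_toLinearMap,
      LinearEquiv.map_eq_zero_iff, g.injective.eq_iff, exists_eq_right]

theorem exists_tor_succ (hM : DRing.VanishesAbove M c) (i j : ℤ) (p : ℕ) :
    ∃ f : DRing.Tor A (p + 1) (L.homology i) ((Cc M c).homology j) →ₗ[A] DRing.Tor A (p + 2) (L.homology i) (M.homology j),
      Function.Injective f := by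
  rcases exists_homC hM j with h | ⟨e, -, -⟩
  · haveI := h
    have hz : IsZero ((((Tor (ModuleCat.{u} A) (p + 1)).obj (L.homology i))).obj ((Cc M c).homology j)) :=
      TorBal.isZero_tor_flat_right ((Cc M c).homology j) p (L.homology i)
    haveI := ModuleCat.subsingleton_of_isZero hz
    exact ⟨0, fun x y _ => Subsingleton.elim (α := (((Tor (ModuleCat.{u} A) (p + 1)).obj (L.homology i))).obj ((Cc M c).homology j)) x y⟩
  · let eI : (Cc M c).homology j ≅ (TorBal27.K A).obj (M.homology j) := e.toModuleIso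
    exact ⟨(((Tor (ModuleCat.{u} A) (p + 1)).obj (L.homology i)).mapIso eI ≪≫
      torSyzygy (L.homology i) (M.homology j) p).toLinearEquiv.toLinearMap, LinearEquiv.injective _⟩

variable {L}

/-- The re-indexing of the summands. -/
def torIdx (n : ℤ) (p : ℕ) : {ij : ℤ × ℤ // ij.1 + ij.2 - (p + 1 : ℕ) = n} ≃ {ij : ℤ × ℤ // ij.1 + ij.2 - (p : ℕ) = n + 1} :=
  Equiv.subtypeEquivRight fun ij => by push_cast; omega

include hM in
theorem exists_torSum_succ (n : ℤ) (p : ℕ) :
    ∃ k : HTor.TorSum L (Cc M c) (n + 1) (p + 1) →ₗ[A] HTor.TorSum L M n (p + 2), Function.Injective k := by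
  choose f hf using fun ij : {ij : ℤ × ℤ // ij.1 + ij.2 - (p + 1 : ℕ) = n + 1} => exists_tor_succ L hM ij.1.1 ij.1.2 p
  let e : HTor.TorSum L M n (p + 2) ≃ₗ[A]
      DirectSum {ij : ℤ × ℤ // ij.1 + ij.2 - (p + 1 : ℕ) = n + 1}
        (fun k => DRing.Tor A (p + 2) (L.homology ((torIdx n (p + 1)).symm k).1.1) (M.homology ((torIdx n (p + 1)).symm k).1.2)) :=
    DirectSum.lequivCongrLeft A (torIdx n (p + 1))
  let l : HTor.TorSum L (Cc M c) (n + 1) (p + 1) →ₗ[A]
      DirectSum {ij : ℤ × ℤ // ij.1 + ij.2 - (p + 1 : ℕ) = n + 1}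
        (fun k => DRing.Tor A (p + 2) (L.homology ((torIdx n (p + 1)).symm k).1.1) (M.homology ((torIdx n (p + 1)).symm k).1.2)) :=
    DirectSum.lmap fun ij => f ij
  exact ⟨e.symm.toLinearMap.comp l, e.symm.injective.comp ((DirectSum.lmap_injective _).2 hf)⟩

include hM in
theorem exists_torSum_one (n : ℤ) :
    ∃ g : HTor.TorSum L M n 1 →ₗ[A] HTor.KunnethSum L (Cc M c) (n + 1),
      LinearMap.range g = LinearMap.ker (sumMap L (Cc M c) (incC M c) (n + 1)) := by
  classical
  choose f hf using fun ij : {ij : ℤ × ℤ // ij.1 + ij.2 - (1 : ℕ) = n} => exists_tor_one L hM ij.1.1 ij.1.2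
  let σ : {ij : ℤ × ℤ // ij.1 + ij.2 - (1 : ℕ) = n} → HTor.Antidiag (n + 1) := fun ij =>
    ⟨ij.1, by have := ij.2; omega⟩
  let g : HTor.TorSum L M n 1 →ₗ[A] HTor.KunnethSum L (Cc M c) (n + 1) :=
    DirectSum.toModule A _ _ fun ij => DirectSum.lof A (HTor.Antidiag (n + 1))
      (fun k => (L.homology k.1.1 : Type u) ⊗[A] ((Cc M c).homology k.1.2)) (σ ij) ∘ₗ f ij
  refine ⟨g, le_antisymm ?_ fun x hx => ?_⟩
  · rintro _ ⟨t, rfl⟩
    induction t using DirectSum.induction_on with
    | zero => simp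
    | of ij s =>
      show sumMap L (Cc M c) (incC M c) (n + 1) (g (DirectSum.lof A _ _ ij s)) = 0
      simp only [g, DirectSum.toModule_lof, LinearMap.comp_apply, sumMap, DirectSum.lmap_lof]
      have : (HomologicalComplex.homologyMap (incC M c) ij.1.2).hom.lTensor (L.homology ij.1.1) (f ij s) = 0 :=
        (hf ij).le ⟨s, rfl⟩
      erw [this, map_zero]
    | add a a' ha ha' =>
      simp only [LinearMap.mem_ker, map_add] at ha ha' ⊢
      rw [ha, ha', add_zero]
  · rw [← DirectSum.sum_support_of x]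
    refine sum_mem fun k _ => ?_
    have hk : (HomologicalComplex.homologyMap (incC M c) k.1.2).hom.lTensor (L.homology k.1.1) (x k) = 0 := by
      have := congrArg (fun z : HTor.KunnethSum L (Qc M c) (n + 1) => z k) hx
      simpa [sumMap] using this
    let ij : {ij : ℤ × ℤ // ij.1 + ij.2 - (1 : ℕ) = n} := ⟨k.1, by have := k.2; omega⟩
    obtain ⟨s, hs⟩ := (hf ij).ge hk
    refine ⟨DirectSum.lof A _ _ ij s, ?_⟩
    simp only [g, DirectSum.toModule_lof, LinearMap.comp_apply]
    rw [DirectSum.lof_eq_of]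
    exact congrArg (DirectSum.of (fun i : HTor.Antidiag (n + 1) => (L.homology i.1.1 : Type u) ⊗[A] ((Cc M c).homology i.1.2)) k) hs

/-- The statement of the filtration. -/
def Good (L M : DRing.Cx A) (n : ℤ) : Prop :=
  ∃ (N : ℕ) (F : ℕ → Submodule A ((HTor.tensorCx L M).homology n)),
    F 0 = LinearMap.range (phi L M n) ∧ Monotone F ∧ F N = ⊤ ∧
      ∀ p : ℕ, HTor.IsSubquotient A (HTor.grSucc F p) (HTor.TorSum L M n (p + 1))

theorem good_of_vanish {L M : DRing.Cx A} {b c : ℤ} (hL : DRing.VanishesAbove L b) (hM : DRing.VanishesAbove M c)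
    {n : ℤ} (hn : b + c < n) : Good L M n := by
  haveI : Subsingleton ((HTor.tensorCx L M).homology n) := by
    haveI := ModuleCat.subsingleton_of_isZero (DBaseChange.isZero_tensor_X (K := L) (L := M) n fun i j hij =>
      if h : b < i then Or.inl (hL i h) else Or.inr (hM j (by omega)))
    refine ⟨fun x y => ?_⟩
    obtain ⟨z, rfl⟩ := DMod.homologyπ_surjective (L ⊗ M) n x
    obtain ⟨z', rfl⟩ := DMod.homologyπ_surjective (L ⊗ M) n y
    exact congrArg ((L ⊗ M).homologyπ n)
      (DMod.iCycles_injective (L ⊗ M) n (Subsingleton.elim ((L ⊗ M).iCycles n z) ((L ⊗ M).iCycles n z')))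
  refine ⟨0, fun _ => LinearMap.range (phi L M n), rfl, monotone_const, Subsingleton.elim _ _, fun p => ?_⟩
  refine isSubquotient_of_surjective ⊥ 0 fun m => ⟨0, ?_⟩
  obtain ⟨x, rfl⟩ := Submodule.Quotient.mk_surjective _ m
  rw [Subsingleton.elim x 0, Submodule.Quotient.mk_zero]
  rfl

theorem good_aux {L : DRing.Cx A} {b c : ℤ} (hL : DRing.VanishesAbove L b) (hF : DRing.TermwiseFlat L) :
    ∀ (k : ℕ) (M : DRing.Cx A) (n : ℤ), DRing.VanishesAbove M c → b + c < n + k → Good L M n := by
  intro k
  induction k with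
  | zero => exact fun M n hM hn => good_of_vanish hL hM (by simpa using hn)
  | succ k ih =>
    intro M n hM hn
    obtain ⟨N, G, hG0, hGm, hGN, hG⟩ := ih (Cc M c) (n + 1) (vanishesAbove_C hM) (by push_cast at hn; omega)
    let δ : (HTor.tensorCx L M).homology n →ₗ[A] (HTor.tensorCx L (Cc M c)).homology (n + 1) := delta hL hF hM n
    let F : ℕ → Submodule A ((HTor.tensorCx L M).homology n) := fun
      | 0 => LinearMap.ker δ
      | p + 1 => Submodule.comap δ (G p)
    have hF0 : F 0 = LinearMap.range (phi L M n) := (range_phi_eq_ker_delta hL hF hM n).symm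
    refine ⟨N + 1, F, hF0, monotone_nat_of_le_succ fun p => ?_, ?_, fun p => ?_⟩
    · cases p with
      | zero => exact fun x hx => (show δ x ∈ G 0 by rw [LinearMap.mem_ker.1 hx]; exact zero_mem _)
      | succ p => exact Submodule.comap_mono (hGm (Nat.le_succ p))
    · show Submodule.comap δ (G N) = ⊤
      rw [hGN, Submodule.comap_top]
    cases p with
    | zero =>
      -- the first piece
      obtain ⟨g, hg⟩ := exists_torSum_one (L := L) hM n
      let u : F 1 →ₗ[A] (HTor.tensorCx L (Cc M c)).homology (n + 1) := δ ∘ₗ (F 1).subtype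
      have hker : Submodule.comap (F 1).subtype (F 0) = LinearMap.ker u := by
        rw [LinearMap.ker_comp]
      have hrange : LinearMap.range u = LinearMap.range (phi L (Cc M c) (n + 1) ∘ₗ g) := by
        rw [LinearMap.range_comp, LinearMap.range_comp, Submodule.range_subtype, hg,
          ← range_delta_inf hL hF hM n, inf_comm]
        show (Submodule.comap δ (G 0)).map δ = _
        rw [Submodule.map_comap_eq, hG0, inf_comm]
      let w : HTor.grSucc F 0 ≃ₗ[A] LinearMap.range (phi L (Cc M c) (n + 1) ∘ₗ g) :=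
        (Submodule.quotEquivOfEq _ _ hker).trans (u.quotKerEquivRange.trans (LinearEquiv.ofEq _ _ hrange))
      exact isSubquotient_of_surjective ⊤
        (w.symm.toLinearMap ∘ₗ (phi L (Cc M c) (n + 1) ∘ₗ g).rangeRestrict ∘ₗ (⊤ : Submodule A _).subtype)
        (w.symm.surjective.comp ((LinearMap.surjective_rangeRestrict _).comp fun t => ⟨⟨t, trivial⟩, rfl⟩))
    | succ p =>
      obtain ⟨kk, hkk⟩ := exists_torSum_succ (L := L) hM n p
      let v : HTor.grSucc F (p + 1) →ₗ[A] HTor.grSucc G p :=
        Submodule.mapQ _ _ (δ.restrict fun x hx => hx) fun x hx => hx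
      refine isSubquotient_map (hG p) v ((injective_iff_map_eq_zero _).2 fun z hz => ?_) kk hkk
      obtain ⟨x, rfl⟩ := Submodule.Quotient.mk_surjective _ z
      simp only [v, Submodule.mapQ_apply] at hz
      rw [Submodule.Quotient.mk_eq_zero] at hz
      exact (Submodule.Quotient.mk_eq_zero _).2 hz

theorem good {L M : DRing.Cx A} {b c : ℤ} (hL : DRing.VanishesAbove L b) (hF : DRing.TermwiseFlat L)
    (hM : DRing.VanishesAbove M c) (n : ℤ) : Good L M n :=
  good_aux hL hF (b + c - n + 1).toNat M n hM (by omega)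

end Groth.Agent.Kunneth27
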