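import Groth.Agent.Lib.Kunneth27.Filtration

/-!
# Consequences of the Künneth filtration
-/

set_option autoImplicit false
set_option linter.style.haveILetI false
set_option backward.isDefEq.respectTransparency false

universe u

open CategoryTheory CategoryTheory.Limits MonoidalCategory TensorProduct

noncomputable section

namespace Groth.Agent.Kunneth27

variable {A : Type u} [CommRing A] {L M : DRing.Cx A} {b c : ℤ}

theorem subsingleton_directSum {ι : Type} (T : ι → Type u) [∀ i, AddCommGroup (T i)] (h : ∀ i, Subsingleton (T i)) :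
    Subsingleton (DirectSum ι T) :=
  ⟨fun x y => DFinsupp.ext fun i => Subsingleton.elim _ _⟩

theorem subsingleton_grSucc_of {n : ℤ} {F : ℕ → Submodule A ((HTor.tensorCx L M).homology n)} {p : ℕ}
    (hsq : HTor.IsSubquotient A (HTor.grSucc F p) (HTor.TorSum L M n (p + 1)))
    (h : ∀ i j : ℤ, i + j - ((p + 1 : ℕ) : ℤ) = n → Subsingleton (DRing.Tor A (p + 1) (L.homology i) (M.homology j))) :
    Subsingleton (HTor.grSucc F p) := by
  obtain ⟨S', f, hf⟩ := exists_surjective_of_isSubquotient hsq
  haveI := subsingleton_directSum _ fun ij : {ij : ℤ × ℤ // ij.1 + ij.2 - ((p + 1 : ℕ) : ℤ) = n} => h ij.1.1 ij.1.2 ij.2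
  exact hf.subsingleton

theorem phi_surjective_of (hL : DRing.VanishesAbove L b) (hF : DRing.TermwiseFlat L) (hM : DRing.VanishesAbove M c)
    (n : ℤ) (h : ∀ (p : ℕ) (i j : ℤ), i + j - ((p + 1 : ℕ) : ℤ) = n →
      Subsingleton (DRing.Tor A (p + 1) (L.homology i) (M.homology j))) :
    Function.Surjective (phi L M n) := by
  obtain ⟨N, F, h0, hm, hN, hgr⟩ := good hL hF hM n
  have hall : ∀ p, F p ≤ F 0 := fun p => by
    induction p with
    | zero => exact le_rfl
    | succ p ih =>
      haveI := subsingleton_grSucc_of (hgr p) (h p)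
      refine le_trans (fun x hx => ?_) ih
      exact (Submodule.Quotient.mk_eq_zero (Submodule.comap (F (p + 1)).subtype (F p))).1
        (Subsingleton.elim (Submodule.Quotient.mk (⟨x, hx⟩ : F (p + 1))) 0)
  intro x
  have : x ∈ F 0 := hall N (hN ▸ trivial)
  rwa [h0] at this

theorem subsingleton_tor_of_flat {X Y : Type u} [AddCommGroup X] [Module A X] [AddCommGroup Y] [Module A Y]
    [Module.Flat A X] (p : ℕ) : Subsingleton (DRing.Tor A (p + 1) X Y) :=
  ModuleCat.subsingleton_of_isZero (TorBal.isZero_tor_flat_left X p (ModuleCat.of A Y))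

theorem phi_bijective_of_flat (hL : DRing.VanishesAbove L b) (hF : DRing.TermwiseFlat L) (hM : DRing.VanishesAbove M c)
    (hH : ∀ i : ℤ, Module.Flat A (L.homology i)) (n : ℤ) : Function.Bijective (phi L M n) := by
  have hsurj : ∀ (M' : DRing.Cx A), DRing.VanishesAbove M' c → ∀ m, Function.Surjective (phi L M' m) :=
    fun M' hM' m => phi_surjective_of hL hF hM' m fun p i j _ =>
      haveI := hH i
      subsingleton_tor_of_flat p
  refine ⟨(injective_iff_map_eq_zero _).2 fun x hx => ?_, hsurj M hM n⟩
  obtain ⟨y, rfl⟩ := ((DirectSum.lmap_surjective _).2 fun ij : HTor.Antidiag n =>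
    LinearMap.lTensor_surjective (L.homology ij.1.1) (homologyMap_psi_surjective (c := c) hM ij.1.2)) x
  have hy : HomologicalComplex.homologyMap (L ◁ psi M c) n (phi L (Qc M c) n y) = 0 :=
    (phi_natural L (Qc M c) (psi M c) n y).trans hx
  have hex := (ShortComplex.ShortExact.moduleCat_exact_iff_function_exact _).1
    ((shortExact_tensor_step hL hF hM).homology_exact₂ n)
  obtain ⟨z, hz⟩ := (hex _).1 hy
  obtain ⟨w, rfl⟩ := hsurj _ (vanishesAbove_C hM) n z
  have hyw : y = sumMap L (Cc M c) (incC M c) n w :=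
    (phi_Q_bijective hL hF hM n).1 (hz.symm.trans (phi_natural L (Cc M c) (incC M c) n w))
  subst hyw
  show sumMap L (Qc M c) (psi M c) n (sumMap L (Cc M c) (incC M c) n w) = 0
  refine DFinsupp.ext fun ij => ?_
  show (HomologicalComplex.homologyMap (psi M c) ij.1.2).hom.lTensor (L.homology ij.1.1)
    ((HomologicalComplex.homologyMap (incC M c) ij.1.2).hom.lTensor (L.homology ij.1.1) (w ij)) = 0
  rw [← LinearMap.comp_apply, ← LinearMap.lTensor_comp, ← ModuleCat.hom_comp,
    ← HomologicalComplex.homologyMap_comp, incC_psi, HomologicalComplex.homologyMap_zero, ModuleCat.hom_zero,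
    LinearMap.lTensor_zero, LinearMap.zero_apply]

theorem isZero_of_tor_vanishing (hL : DRing.VanishesAbove L b) (hF : DRing.TermwiseFlat L)
    (hM : DRing.VanishesAbove M c) (n : ℤ)
    (h : ∀ (p : ℕ) (i j : ℤ), i + j - p = n → Subsingleton (DRing.Tor A p (L.homology i) (M.homology j))) :
    IsZero ((HTor.tensorCx L M).homology n) := by
  have hs := phi_surjective_of hL hF hM n fun p i j hij => h (p + 1) i j hij
  haveI : Subsingleton (HTor.KunnethSum L M n) := subsingleton_directSum _ fun ij => by
    have := h 0 ij.1.1 ij.1.2 (by have := ij.2; push_cast; omega)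
    exact @Equiv.subsingleton _ _ ((TorBal27.torZeroIso A).app (L.homology ij.1.1, M.homology ij.1.2)).toLinearEquiv.toEquiv.symm this
  haveI : Subsingleton ((HTor.tensorCx L M).homology n) := hs.subsingleton
  exact ModuleCat.isZero_of_subsingleton _

end Groth.Agent.Kunneth27
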