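import Groth.Agent.Lib.Kunneth27.Basic
import Groth.Agent.Lib.TorBal27.Syzygy

/-!
# A free cover of the cohomology of a complex by a complex
-/

set_option autoImplicit false
set_option linter.style.haveILetI false
set_option backward.isDefEq.respectTransparency false

universe u

open CategoryTheory CategoryTheory.Limits

noncomputable section

namespace Groth.Agent.Kunneth27

variable {A : Type u} [CommRing A] (M : DRing.Cx A) (c : ℤ)

/-- The index set of the free cover of the cohomology. -/
abbrev HIdx (j : ℤ) : Type u := {h : M.homology j // j ≤ c}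

/-- The index set of the contractible part. -/
abbrev SIdx (j : ℤ) : Type u := {x : (i : ℤ) × (M.X i) // x.1 + 1 = j ∧ j ≤ c}

/-- The free cover of the cohomology, with zero differential. -/
def Pc : DRing.Cx A where
  X j := ModuleCat.of A (HIdx M c j →₀ A)
  d _ _ := 0
  shape _ _ _ := rfl
  d_comp_d' _ _ _ _ _ := by simp

theorem Pc_d (i j : ℤ) : (Pc M c).d i j = 0 := rfl

/-- The differential of the cover. -/
def Qd (j : ℤ) : ModuleCat.of A ((HIdx M c j →₀ A) × (SIdx M c (j + 1) →₀ A) × (SIdx M c j →₀ A)) ⟶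
    ModuleCat.of A ((HIdx M c (j + 1) →₀ A) × (SIdx M c (j + 1 + 1) →₀ A) × (SIdx M c (j + 1) →₀ A)) :=
  ModuleCat.ofHom (LinearMap.prod 0 (LinearMap.prod 0 (LinearMap.fst A _ _ ∘ₗ LinearMap.snd A _ _)))

/-- The cover of the complex. -/
def Qc : DRing.Cx A :=
  CochainComplex.of (fun j => ModuleCat.of A ((HIdx M c j →₀ A) × (SIdx M c (j + 1) →₀ A) × (SIdx M c j →₀ A)))
    (Qd M c) fun j => ModuleCat.hom_ext (LinearMap.ext fun x => rfl)

theorem Qc_d (j : ℤ) : (Qc M c).d j (j + 1) = Qd M c j := by
  unfold Qc; simp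

/-- A representative of a class. -/
def rep {j : ℤ} (h : M.homology j) : M.X j :=
  M.iCycles j (Function.surjInv (DMod.homologyπ_surjective M j) h)

theorem d_rep {j : ℤ} (h : M.homology j) (k : ℤ) : M.d j k (rep M h) = 0 := DMod.d_iCycles j k _

/-- The three components of the map to the complex. -/
def liftP (j : ℤ) : (HIdx M c j →₀ A) →ₗ[A] M.X j := Finsupp.linearCombination A fun h => rep M h.1

/-- The contractible part, first copy. -/
def liftG (j : ℤ) : (SIdx M c (j + 1) →₀ A) →ₗ[A] M.X j :=
  Finsupp.linearCombination A fun x => (M.XIsoOfEq (show x.1.1 = j by have := x.2.1; omega)).hom x.1.2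

/-- The contractible part, second copy. -/
def liftD (j : ℤ) : (SIdx M c j →₀ A) →ₗ[A] M.X j := Finsupp.linearCombination A fun x => M.d x.1.1 j x.1.2

/-- The map to the complex, in one degree. -/
def psiF (j : ℤ) : ((HIdx M c j →₀ A) × (SIdx M c (j + 1) →₀ A) × (SIdx M c j →₀ A)) →ₗ[A] M.X j :=
  (liftP M c j).coprod ((liftG M c j).coprod (liftD M c j))

theorem psiF_apply (j : ℤ) (a : HIdx M c j →₀ A) (g : SIdx M c (j + 1) →₀ A) (g' : SIdx M c j →₀ A) :
    psiF M c j (a, g, g') = liftP M c j a + (liftG M c j g + liftD M c j g') := rfl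

/-- The map to the complex. -/
def psi : Qc M c ⟶ M where
  f j := ModuleCat.ofHom (psiF M c j)
  comm' := by
    rintro j k (rfl : j + 1 = k)
    rw [Qc_d]
    refine ModuleCat.hom_ext (LinearMap.ext ?_)
    rintro ⟨a, g, g'⟩
    show M.d j (j + 1) (psiF M c j (a, g, g')) = psiF M c (j + 1) (0, 0, g)
    have h1 : (M.d j (j + 1)).hom ∘ₗ liftP M c j = 0 := Finsupp.lhom_ext fun h r => by
      simp only [LinearMap.comp_apply, liftP, Finsupp.linearCombination_single, map_smul, LinearMap.zero_apply]
      show r • M.d j (j + 1) (rep M h.1) = 0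
      rw [d_rep, smul_zero]
    have h2 : (M.d j (j + 1)).hom ∘ₗ liftG M c j = liftD M c (j + 1) := Finsupp.lhom_ext fun x r => by
      simp only [LinearMap.comp_apply, liftG, liftD, Finsupp.linearCombination_single, map_smul]
      refine congrArg (r • ·) ?_
      exact LinearMap.congr_fun (congrArg ModuleCat.Hom.hom
        (M.XIsoOfEq_hom_comp_d (show x.1.1 = j by have := x.2.1; omega) (j + 1))) x.1.2
    have h3 : (M.d j (j + 1)).hom ∘ₗ liftD M c j = 0 := Finsupp.lhom_ext fun x r => by
      simp only [LinearMap.comp_apply, liftD, Finsupp.linearCombination_single, map_smul, LinearMap.zero_apply]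
      show r • M.d j (j + 1) (M.d x.1.1 j x.1.2) = 0
      rw [← ModuleCat.comp_apply, HomologicalComplex.d_comp_d]
      simp
    rw [psiF_apply, psiF_apply]
    simp only [map_add, map_zero, zero_add]
    rw [show M.d j (j + 1) (liftP M c j a) = 0 from LinearMap.congr_fun h1 a,
      show M.d j (j + 1) (liftD M c j g') = 0 from LinearMap.congr_fun h3 g', zero_add, add_zero]
    exact LinearMap.congr_fun h2 g

/-- The inclusion of the part with zero differential. -/
def incP : Pc M c ⟶ Qc M c where
  f j := ModuleCat.ofHom (LinearMap.inl A _ _)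
  comm' := by
    rintro j k (rfl : j + 1 = k)
    rw [Qc_d, Pc_d, Limits.zero_comp]
    exact ModuleCat.hom_ext (LinearMap.ext fun a => rfl)

variable {M c}

theorem subsingleton_Q (hM : DRing.VanishesAbove M c) {j : ℤ} (hj : c < j) : Subsingleton ((Qc M c).X j) := by
  haveI : IsEmpty (HIdx M c j) := ⟨fun h => by have := h.2; omega⟩
  haveI : IsEmpty (SIdx M c j) := ⟨fun h => by have := h.2.2; omega⟩
  haveI : IsEmpty (SIdx M c (j + 1)) := ⟨fun h => by have := h.2.2; omega⟩
  exact inferInstanceAs (Subsingleton ((HIdx M c j →₀ A) × (SIdx M c (j + 1) →₀ A) × (SIdx M c j →₀ A)))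

theorem vanishesAbove_Q (hM : DRing.VanishesAbove M c) : DRing.VanishesAbove (Qc M c) c := fun j hj =>
  haveI := subsingleton_Q hM hj
  ModuleCat.isZero_of_subsingleton _

theorem vanishesAbove_P : DRing.VanishesAbove (Pc M c) c := fun j hj => by
  haveI : IsEmpty (HIdx M c j) := ⟨fun h => by have := h.2; omega⟩
  exact @ModuleCat.isZero_of_subsingleton _ _ _ (inferInstanceAs (Subsingleton (HIdx M c j →₀ A)))

theorem flat_P : DRing.TermwiseFlat (Pc M c) := fun j => inferInstanceAs (Module.Flat A (HIdx M c j →₀ A))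

theorem quasiIso_incP : QuasiIso (incP M c) := by
  rw [quasiIso_iff]
  intro j
  obtain ⟨i, rfl⟩ : ∃ i, j = i + 1 := ⟨j - 1, by omega⟩
  rw [quasiIsoAt_iff_isIso_homologyMap, ConcreteCategory.isIso_iff_bijective]
  refine DMod.homologyMap_bijective_of _ (i := i) (k := i + 1 + 1) (by simp) (CochainComplex.next ℤ (i + 1)) ?_ ?_
  · rintro ⟨a, g, g'⟩ hx
    rw [Qc_d] at hx
    have hg : g = 0 := congrArg (fun z => z.2.2) hx
    subst hg
    refine ⟨a, (0, g', 0), by rw [Pc_d]; rfl, ?_⟩
    rw [Qc_d]
    show (a, (0 : SIdx M c (i + 1 + 1) →₀ A), (0 : SIdx M c (i + 1) →₀ A)) + ((0 : HIdx M c (i + 1) →₀ A), (0 : SIdx M c (i + 1 + 1) →₀ A), g') = (a, 0, g')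
    simp
  · rintro w ⟨a, g, g'⟩ _ hy
    rw [Qc_d] at hy
    have hw : (0 : HIdx M c (i + 1) →₀ A) = w := congrArg (fun z => z.1) hy
    exact ⟨0, by rw [map_zero]; exact hw⟩

theorem psi_surjective (hM : DRing.VanishesAbove M c) (j : ℤ) : Function.Surjective ((psi M c).f j) := by
  intro y
  by_cases hj : j < c
  · refine ⟨((0 : HIdx M c j →₀ A), Finsupp.single ⟨⟨j, y⟩, rfl, by omega⟩ 1, (0 : SIdx M c j →₀ A)), ?_⟩
    show psiF M c j _ = y
    rw [psiF_apply, map_zero, map_zero, zero_add, add_zero, liftG, Finsupp.linearCombination_single, one_smul]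
    rfl
  by_cases hj' : c < j
  · haveI := ModuleCat.subsingleton_of_isZero (hM j hj')
    exact ⟨0, Subsingleton.elim _ _⟩
  obtain rfl : j = c := by omega
  obtain ⟨z, hz⟩ := DMod.exists_cycle (K := M) (CochainComplex.next ℤ j) y (by
    haveI := ModuleCat.subsingleton_of_isZero (hM (j + 1) (by omega))
    exact Subsingleton.elim _ _)
  let h := M.homologyπ j z
  have hd : M.homologyπ j (z - Function.surjInv (DMod.homologyπ_surjective M j) h) = 0 := by
    rw [map_sub, Function.surjInv_eq (DMod.homologyπ_surjective M j), sub_self]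
  obtain ⟨v, hv⟩ := (DMod.homologyπ_eq_zero_iff (i := j - 1) (by simp) _).1 hd
  refine ⟨(Finsupp.single ⟨h, le_rfl⟩ 1, (0 : SIdx M j (j + 1) →₀ A), Finsupp.single ⟨⟨j - 1, v⟩, show j - 1 + 1 = j ∧ j ≤ j from ⟨by omega, le_rfl⟩⟩ 1), ?_⟩
  show psiF M j j _ = y
  rw [psiF_apply, map_zero, zero_add, liftP, liftD, Finsupp.linearCombination_single,
    Finsupp.linearCombination_single, one_smul, one_smul, ← hz]
  show rep M h + M.d (j - 1) j v = M.iCycles j z
  rw [hv, map_sub, rep]
  abel

variable (M c)

/-- The kernel of the cover. -/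
def Cc : DRing.Cx A where
  X j := ModuleCat.of A (LinearMap.ker ((psi M c).f j).hom)
  d i j := ModuleCat.ofHom (((Qc M c).d i j).hom.restrict fun x (hx : (psi M c).f i x = 0) => by
    show (psi M c).f j ((Qc M c).d i j x) = 0
    rw [← ModuleCat.comp_apply, ← (psi M c).comm i j, ModuleCat.comp_apply, hx, map_zero])
  shape i j h := ModuleCat.hom_ext (LinearMap.ext fun x => Subtype.ext (by
    show (Qc M c).d i j x.1 = 0
    rw [(Qc M c).shape i j h]; rfl))
  d_comp_d' i j k _ _ := ModuleCat.hom_ext (LinearMap.ext fun x => Subtype.ext (by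
    show (Qc M c).d j k ((Qc M c).d i j x.1) = 0
    rw [← ModuleCat.comp_apply, HomologicalComplex.d_comp_d]; rfl))

/-- The inclusion of the kernel. -/
def incC : Cc M c ⟶ Qc M c where
  f j := ModuleCat.ofHom (LinearMap.ker ((psi M c).f j).hom).subtype
  comm' i j _ := ModuleCat.hom_ext (LinearMap.ext fun x => rfl)

variable {M c}

theorem vanishesAbove_C (hM : DRing.VanishesAbove M c) : DRing.VanishesAbove (Cc M c) c := fun j hj =>
  haveI := subsingleton_Q hM hj
  @ModuleCat.isZero_of_subsingleton _ _ _ (inferInstanceAs (Subsingleton (LinearMap.ker ((psi M c).f j).hom)))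

theorem incC_injective (j : ℤ) : Function.Injective ((incC M c).f j) := Subtype.val_injective

theorem exact_incC_psi (j : ℤ) : Function.Exact ((incC M c).f j).hom ((psi M c).f j).hom :=
  LinearMap.exact_subtype_ker_map _

theorem incC_psi : incC M c ≫ psi M c = 0 :=
  HomologicalComplex.hom_ext _ _ fun j => ModuleCat.hom_ext (LinearMap.ext fun x => x.2)

theorem shortExact_step (hM : DRing.VanishesAbove M c) :
    (ShortComplex.mk (incC M c) (psi M c) incC_psi).ShortExact :=
  HomologicalComplex.shortExact_of_degreewise_shortExact _ fun j =>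
    { exact := (ShortComplex.ShortExact.moduleCat_exact_iff_function_exact _).2 (exact_incC_psi j)
      mono_f := (ModuleCat.mono_iff_injective _).2 (incC_injective j)
      epi_g := (ModuleCat.epi_iff_surjective _).2 (psi_surjective hM j) }

/-- The cohomology of the cover as a module of formal sums. -/
def homQ {j : ℤ} (hj : j ≤ c) : (Qc M c).homology j ≃ₗ[A] ((TorBal27.F A).obj (M.homology j) : Type u) :=
  haveI := quasiIso_incP (M := M) (c := c)
  (asIso (HomologicalComplex.homologyMap (incP M c) j)).toLinearEquiv.symm ≪≫ₗ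
    (LinearEquiv.ofBijective _ (bijective_homologyπ_of_zero (M := Pc M c) (Pc_d M c) j)).symm ≪≫ₗ
    LinearEquiv.ofBijective _ (bijective_iCycles_of_zero (M := Pc M c) (Pc_d M c) j) ≪≫ₗ
    Finsupp.domLCongr (R := A) (M := A) ((Equiv.subtypeUnivEquiv fun _ => hj) : HIdx M c j ≃ M.homology j)

theorem ev_homQ {j : ℤ} (hj : j ≤ c) (η : (Qc M c).homology j) :
    TorBal27.ev (M.homology j) (homQ hj η) = HomologicalComplex.homologyMap (psi M c) j η := by
  haveI := quasiIso_incP (M := M) (c := c)
  obtain ⟨ξ, rfl⟩ := (ConcreteCategory.bijective_of_isIso (HomologicalComplex.homologyMap (incP M c) j)).2 η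
  obtain ⟨z, rfl⟩ := DMod.homologyπ_surjective (Pc M c) j ξ
  have e : homQ hj (HomologicalComplex.homologyMap (incP M c) j ((Pc M c).homologyπ j z)) =
      Finsupp.domLCongr (R := A) (M := A) ((Equiv.subtypeUnivEquiv fun _ => hj) : HIdx M c j ≃ M.homology j)
        ((Pc M c).iCycles j z) := by
    simp only [homQ, LinearEquiv.trans_apply]
    refine congrArg _ ?_
    rw [LinearEquiv.ofBijective_apply]
    refine congrArg ((Pc M c).iCycles j).hom ?_
    rw [LinearEquiv.symm_apply_eq, LinearEquiv.symm_apply_eq]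
    rfl
  rw [e, ← ModuleCat.comp_apply, ← HomologicalComplex.homologyMap_comp, DMod.homologyMap_π]
  let E : (Pc M c).cycles j ≃ₗ[A] (HIdx M c j →₀ A) :=
    LinearEquiv.ofBijective ((Pc M c).iCycles j).hom (bijective_iCycles_of_zero (M := Pc M c) (Pc_d M c) j)
  suffices h : (TorBal27.ev (M.homology j)).comp
      (Finsupp.domLCongr (R := A) (M := A) ((Equiv.subtypeUnivEquiv fun _ => hj) : HIdx M c j ≃ M.homology j)).toLinearMap =
      ((M.homologyπ j).hom.comp (HomologicalComplex.cyclesMap (incP M c ≫ psi M c) j).hom).comp E.symm.toLinearMap by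
    refine (LinearMap.congr_fun h ((Pc M c).iCycles j z)).trans ?_
    show M.homologyπ j (HomologicalComplex.cyclesMap (incP M c ≫ psi M c) j (E.symm (E z))) = _
    rw [E.symm_apply_apply]
  refine Finsupp.lhom_ext fun h r => ?_
  show TorBal27.ev (M.homology j) (Finsupp.domLCongr _ (Finsupp.single h r : HIdx M c j →₀ A)) =
    M.homologyπ j (HomologicalComplex.cyclesMap (incP M c ≫ psi M c) j (E.symm (Finsupp.single h r)))
  have hw : HomologicalComplex.cyclesMap (incP M c ≫ psi M c) j (E.symm (Finsupp.single h r)) =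
      r • Function.surjInv (DMod.homologyπ_surjective M j) h.1 := by
    refine DMod.iCycles_injective M j ?_
    rw [DMod.iCycles_cyclesMap, map_smul]
    show psiF M c j ((E (E.symm (Finsupp.single h r)) : HIdx M c j →₀ A), 0, 0) = _
    rw [E.apply_symm_apply, psiF_apply, map_zero, map_zero, add_zero, add_zero, liftP,
      Finsupp.linearCombination_single]
    rfl
  rw [hw, map_smul, Function.surjInv_eq (DMod.homologyπ_surjective M j), Finsupp.domLCongr_single]
  exact TorBal27.ev_single _ _ _

theorem homologyMap_psi_surjective (hM : DRing.VanishesAbove M c) (j : ℤ) :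
    Function.Surjective (HomologicalComplex.homologyMap (psi M c) j) := by
  intro h
  by_cases hj : j ≤ c
  · obtain ⟨x, hx⟩ := TorBal27.ev_surjective (M.homology j) h
    exact ⟨(homQ hj).symm x, by rw [← ev_homQ hj, LinearEquiv.apply_symm_apply, hx]⟩
  · obtain ⟨z, rfl⟩ := DMod.homologyπ_surjective M j h
    haveI := ModuleCat.subsingleton_of_isZero (hM j (by omega))
    exact ⟨0, by rw [DMod.iCycles_injective M j (Subsingleton.elim (M.iCycles j z) (M.iCycles j 0)), map_zero, map_zero]⟩

theorem homologyMap_incC_injective (hM : DRing.VanishesAbove M c) (j : ℤ) :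
    Function.Injective (HomologicalComplex.homologyMap (incC M c) j) := by
  obtain ⟨i, rfl⟩ : ∃ i, j = i + 1 := ⟨j - 1, by omega⟩
  have hS := shortExact_step hM
  have hδ : hS.δ i (i + 1) rfl = 0 := by
    haveI : Epi (HomologicalComplex.homologyMap (psi M c) i) :=
      (ModuleCat.epi_iff_surjective _).2 (homologyMap_psi_surjective hM i)
    rw [← cancel_epi (HomologicalComplex.homologyMap (psi M c) i), Limits.comp_zero]
    exact hS.comp_δ i (i + 1) rfl
  intro x y hxy
  have hex := (ShortComplex.ShortExact.moduleCat_exact_iff_function_exact _).1 (hS.homology_exact₁ i (i + 1) rfl)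
  rw [← sub_eq_zero]
  obtain ⟨w, hw⟩ := (hex (x - y)).1 (by
    show HomologicalComplex.homologyMap (incC M c) (i + 1) (x - y) = 0
    rw [map_sub, hxy, sub_self])
  rw [← hw]
  show hS.δ i (i + 1) rfl w = 0
  rw [hδ]; rfl

/-- The cohomology of the kernel is the syzygy of the cohomology. -/
theorem exists_homC (hM : DRing.VanishesAbove M c) (j : ℤ) :
    (Subsingleton ((Cc M c).homology j)) ∨
      ∃ (e : (Cc M c).homology j ≃ₗ[A] ((TorBal27.K A).obj (M.homology j) : Type u))
        (e' : (Qc M c).homology j ≃ₗ[A] ((TorBal27.F A).obj (M.homology j) : Type u)),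
        ∀ x, TorBal27.inc (M.homology j) (e x) = e' (HomologicalComplex.homologyMap (incC M c) j x) := by
  by_cases hj : j ≤ c
  · refine Or.inr ?_
    let f : (Cc M c).homology j →ₗ[A] ((TorBal27.K A).obj (M.homology j) : Type u) :=
      ((homQ hj).toLinearMap ∘ₗ (HomologicalComplex.homologyMap (incC M c) j).hom).codRestrict
        (LinearMap.ker (TorBal27.ev (M.homology j))) fun x => by
          show TorBal27.ev (M.homology j) (homQ hj _) = 0
          rw [ev_homQ hj, ← ModuleCat.comp_apply, ← HomologicalComplex.homologyMap_comp, incC_psi,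
            HomologicalComplex.homologyMap_zero]
          rfl
    have hbij : Function.Bijective f := by
      refine ⟨fun x y hxy => homologyMap_incC_injective hM j ((homQ hj).injective (congrArg Subtype.val hxy)), ?_⟩
      rintro ⟨y, hy⟩
      have hex := (ShortComplex.ShortExact.moduleCat_exact_iff_function_exact _).1 ((shortExact_step hM).homology_exact₂ j)
      obtain ⟨x, hx⟩ := (hex ((homQ hj).symm y)).1 (by
        show HomologicalComplex.homologyMap (psi M c) j _ = 0
        rw [← ev_homQ hj, LinearEquiv.apply_symm_apply]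
        exact hy)
      exact ⟨x, Subtype.ext ((congrArg (homQ hj) hx).trans ((homQ hj).apply_symm_apply y))⟩
    exact ⟨LinearEquiv.ofBijective f hbij, homQ hj, fun x => rfl⟩
  · refine Or.inl ?_
    haveI := ModuleCat.subsingleton_of_isZero (vanishesAbove_C hM j (by omega))
    refine ⟨fun x y => ?_⟩
    obtain ⟨z, rfl⟩ := DMod.homologyπ_surjective (Cc M c) j x
    obtain ⟨z', rfl⟩ := DMod.homologyπ_surjective (Cc M c) j y
    rw [DMod.iCycles_injective (Cc M c) j (Subsingleton.elim ((Cc M c).iCycles j z) ((Cc M c).iCycles j z'))]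

end Groth.Agent.Kunneth27
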